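import Mathlib

/-!
# Global functions on a connected reduced scheme, integral over an algebraically closed field
-/

set_option autoImplicit false
universe u

open AlgebraicGeometry CategoryTheory Limits TopologicalSpace Opposite Polynomial

namespace Groth.Agent.Lib.Helper24.AutRigid

/-- In a connected space, a finite family of open sets which pairwise cover the space and have
empty intersection contains the empty set. -/
theorem exists_eq_empty_of_cover {X : Type*} [TopologicalSpace X] [PreconnectedSpace X] [Nonempty X]
    {ι : Type*} [DecidableEq ι] (S : Finset ι) (D : ι → Set X) (hD : ∀ i, IsOpen (D i))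
    (hcov : ∀ i j, i ≠ j → D i ∪ D j = Set.univ) (hint : ⋂ i ∈ S, D i = ∅) :
    ∃ i ∈ S, D i = ∅ := by
  induction S using Finset.induction_on with
  | empty =>
    exfalso
    simp only [Finset.notMem_empty, Set.iInter_of_empty, Set.iInter_univ] at hint
    exact Set.univ_nonempty.ne_empty hint
  | insert a T haT ih =>
    rw [Finset.set_biInter_insert] at hint
    set V : Set X := ⋂ i ∈ T, D i with hV
    have hVo : IsOpen V := isOpen_biInter_finset fun i _ => hD i
    have hUV : D a ∪ V = Set.univ := by
      rw [Set.eq_univ_iff_forall]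
      intro z
      by_cases hz : z ∈ D a
      · exact Or.inl hz
      · right
        simp only [hV, Set.mem_iInter]
        intro i hi
        have hia : a ≠ i := fun h => haT (h ▸ hi)
        have : z ∈ D a ∪ D i := by rw [hcov a i hia]; trivial
        exact this.resolve_left hz
    have hcompl : (D a)ᶜ = V := by
      ext z
      constructor
      · intro hz
        have : z ∈ D a ∪ V := by rw [hUV]; trivial
        exact this.resolve_left hz
      · intro hz hza
        have : z ∈ D a ∩ V := ⟨hza, hz⟩
        rw [hint] at this
        exact this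
    have hclopen : IsClopen (D a) := ⟨⟨by rw [hcompl]; exact hVo⟩, hD a⟩
    rcases isClopen_iff.mp hclopen with h | h
    · exact ⟨a, Finset.mem_insert_self a T, h⟩
    · have hVe : V = ∅ := by rw [← hcompl, h, Set.compl_univ]
      obtain ⟨i, hi, hDi⟩ := ih hVe
      exact ⟨i, Finset.mem_insert_of_mem hi, hDi⟩

lemma mem_basicOpen_multiset_prod {X : Scheme.{u}} (z : X) (m : Multiset Γ(X, ⊤))
    (h : ∀ f ∈ m, z ∈ X.basicOpen f) : z ∈ X.basicOpen m.prod := by
  induction m using Multiset.induction_on with
  | empty => simp
  | cons f m ih =>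
    rw [Multiset.prod_cons, Scheme.basicOpen_mul]
    exact ⟨h f (Multiset.mem_cons_self f m), ih fun g hg => h g (Multiset.mem_cons_of_mem hg)⟩

/-- On a connected reduced scheme, every global function integral over an algebraically closed
field is a constant. -/
theorem surjective_of_isIntegral {k : Type u} [Field k] [IsAlgClosed k] (W : Scheme.{u})
    [IsReduced W] [ConnectedSpace W] (ρ : k →+* Γ(W, ⊤)) (hρ : ρ.IsIntegral) :
    Function.Surjective ρ := by
  classical
  intro x
  obtain ⟨p, hp, hpx⟩ := hρ x
  have hsplit : p = (p.roots.map (fun a => X - C a)).prod :=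
    (IsAlgClosed.splits p).eq_prod_roots_of_monic hp
  have hprod : (p.roots.map (fun a => x - ρ a)).prod = 0 := by
    have h1 : eval₂RingHom ρ x p = 0 := hpx
    rw [hsplit, map_multiset_prod, Multiset.map_map] at h1
    have h2 : (fun a => (eval₂RingHom ρ x) (X - C a)) = fun a => x - ρ a := by
      funext a
      simp
    rw [← h1]
    congr 1
    exact congrArg (fun F => Multiset.map F p.roots) h2.symm
  let D : k → Set W := fun a => (W.basicOpen (x - ρ a) : Set W)
  have hD : ∀ a, IsOpen (D a) := fun a => (W.basicOpen (x - ρ a)).2
  have hcov : ∀ a b, a ≠ b → D a ∪ D b = Set.univ := by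
    intro a b hab
    rw [Set.eq_univ_iff_forall]
    intro z
    have hunit : IsUnit (ρ (a - b)) := (IsUnit.mk0 _ (sub_ne_zero.mpr hab)).map ρ
    have hz : z ∈ W.basicOpen (ρ (a - b)) := by
      rw [W.basicOpen_of_isUnit hunit]; trivial
    have he : ρ (a - b) = (x - ρ b) + (-1) * (x - ρ a) := by
      rw [map_sub]; ring
    rw [he] at hz
    rcases W.basicOpen_add_le _ _ hz with h | h
    · exact Or.inr h
    · rw [Scheme.basicOpen_mul] at h
      exact Or.inl h.2
  have hint : ⋂ a ∈ p.roots.toFinset, D a = ∅ := by
    rw [Set.eq_empty_iff_forall_notMem]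
    intro z hz
    simp only [Set.mem_iInter, Multiset.mem_toFinset] at hz
    have h1 : z ∈ W.basicOpen (p.roots.map (fun a => x - ρ a)).prod := by
      apply mem_basicOpen_multiset_prod
      intro f hf
      obtain ⟨a, ha, rfl⟩ := Multiset.mem_map.mp hf
      exact hz a ha
    rw [hprod, Scheme.basicOpen_zero] at h1
    exact h1
  obtain ⟨a, -, ha⟩ := exists_eq_empty_of_cover p.roots.toFinset D hD hcov hint
  refine ⟨a, ?_⟩
  have h0 : W.basicOpen (x - ρ a) = ⊥ := by
    ext z
    simp only [Opens.coe_bot, Set.mem_empty_iff_false, iff_false]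
    intro hz
    have : z ∈ D a := hz
    rw [ha] at this
    exact this
  rw [basicOpen_eq_bot_iff] at h0
  exact (sub_eq_zero.mp h0).symm

end Groth.Agent.Lib.Helper24.AutRigid
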