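import Mathlib

/-!
# Automorphisms fixing a normal subgroup and its quotient: formal part
-/

set_option autoImplicit false
universe u

open CategoryTheory Limits MonoidalCategory CartesianMonoidalCategory MonObj GrpObj

namespace Groth.Agent.Lib.Helper24.AutRigid

variable {C : Type*} [Category C] [CartesianMonoidalCategory C]
variable {G H Q : C} [GrpObj G] [GrpObj H] [GrpObj Q]
  (j : H ⟶ G) [IsMonHom j] (q : G ⟶ Q) [IsMonHom q] (hker : IsPullback j (toUnit H) q η[Q])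

include hker in
/-- A `T`-point of `G` killed by `q` comes from `H`. -/
lemma exists_lift_of_comp_eq_one {T : C} (g : T ⟶ G) (hg : g ≫ q = 1) :
    ∃ h : T ⟶ H, h ≫ j = g :=
  ⟨hker.lift g (toUnit T) (by rw [hg, Hom.one_def]), hker.lift_fst _ _ _⟩

include hker in
lemma mono_of_isKernel : Mono j := by
  constructor
  intro T a b hab
  exact hker.hom_ext hab (toUnit_unique _ _)

variable (u : G ⟶ G) [IsMonHom u] (hH : j ≫ u = j) (hQ : u ≫ q = q)

include hker hQ in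
/-- The morphism `g ↦ u(g) g⁻¹` factors through the kernel `H`. -/
lemma exists_phi : ∃ φ' : G ⟶ H, φ' ≫ j = u * (𝟙 G)⁻¹ := by
  apply exists_lift_of_comp_eq_one j q hker
  rw [MonObj.mul_comp, GrpObj.inv_comp, hQ, Category.id_comp, mul_inv_cancel]

include hker hH hQ in
/-- The morphism `g ↦ u(g) g⁻¹` is invariant under right translation by `H`. -/
lemma phi_invariant (φ' : G ⟶ H) (hφ : φ' ≫ j = u * (𝟙 G)⁻¹) {T : C} (g₁ g₂ : T ⟶ G)
    (h12 : g₁ ≫ q = g₂ ≫ q) : g₁ ≫ φ' = g₂ ≫ φ' := by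
  haveI := mono_of_isKernel j q hker
  rw [← cancel_mono j, Category.assoc, Category.assoc, hφ]
  obtain ⟨h, hh⟩ := exists_lift_of_comp_eq_one j q hker (g₁⁻¹ * g₂) (by
    rw [MonObj.mul_comp, GrpObj.inv_comp, h12, inv_mul_cancel])
  have hg₂ : g₂ = g₁ * (h ≫ j) := by rw [hh]; group
  have hu : (h ≫ j) ≫ u = h ≫ j := by rw [Category.assoc, hH]
  rw [MonObj.comp_mul, MonObj.comp_mul, GrpObj.comp_inv, GrpObj.comp_inv, Category.comp_id,
    Category.comp_id, hg₂, MonObj.mul_comp, hu]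
  group

include hker in
/-- If `g ↦ u(g) g⁻¹` is constant, then `u` is the identity. -/
lemma eq_id_of_phi_const (φ' : G ⟶ H) (hφ : φ' ≫ j = u * (𝟙 G)⁻¹) (c : 𝟙_ C ⟶ H)
    (hc : φ' = toUnit G ≫ c) : u = 𝟙 G := by
  have h1 : η[G] ≫ (u * (𝟙 G)⁻¹) = 1 := by
    rw [MonObj.comp_mul, GrpObj.comp_inv, Category.comp_id, IsMonHom.one_hom, mul_inv_cancel]
  have h2 : c ≫ j = η[G] ≫ (u * (𝟙 G)⁻¹) := by
    rw [← hφ, hc, ← Category.assoc, ← Category.assoc]
    congr 1
    rw [toUnit_unique (η[G] ≫ toUnit G) (𝟙 _), Category.id_comp]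
  have h3 : u * (𝟙 G)⁻¹ = 1 := by
    rw [← hφ, hc, Category.assoc, h2, h1, MonObj.comp_one]
  exact mul_inv_eq_one.mp h3

end Groth.Agent.Lib.Helper24.AutRigid
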