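import Mathlib
import Groth.Prelude.Def_AlgGrp
import Groth.Agent.Lib.Helper24.AutRigid.Group
import Groth.Agent.Lib.Helper24.AutRigid.GlobalSections
import Groth.Agent.Lib.Helper24.Blanchard.Factor
import Groth.Agent.Lib.Helper27.SchemeField

/-!
# Automorphisms of an extension of an abelian variety by an affine group
-/

set_option autoImplicit false
universe u

open AlgebraicGeometry CategoryTheory Limits TopologicalSpace Opposite
open MonoidalCategory CartesianMonoidalCategory MonObj GrpObj

namespace Groth.Agent.Lib.Helper24.AutRigid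

variable {k : Type u} [Field k] [IsAlgClosed k]

/-- A proper, connected, reduced scheme over an algebraically closed field has only constant global
functions. -/
theorem isIso_appTop_of_proper {X : Scheme.{u}} (f : X ⟶ Spec (CommRingCat.of k))
    [UniversallyClosed f] [IsReduced X] [ConnectedSpace X] : IsIso f.appTop := by
  let F : CommRingCat.of k ⟶ Γ(X, ⊤) := (Scheme.ΓSpecIso (CommRingCat.of k)).inv ≫ f.appTop
  have hF : F.hom.IsIntegral := by
    apply RingHom.isIntegral_respectsIso.2
      (e := (Scheme.ΓSpecIso (CommRingCat.of k)).symm.commRingCatIsoToRingEquiv)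
    exact isIntegral_appTop_of_universallyClosed f
  have hsurj : Function.Surjective F.hom := surjective_of_isIntegral X F.hom hF
  haveI : Nontrivial Γ(X, ⊤) :=
    @Scheme.component_nontrivial X ⊤ ⟨⟨Nonempty.some inferInstance, trivial⟩⟩
  have hinj : Function.Injective F.hom := F.hom.injective
  haveI : IsIso F := by
    rw [ConcreteCategory.isIso_iff_bijective]
    exact ⟨hinj, hsurj⟩
  have : f.appTop = (Scheme.ΓSpecIso (CommRingCat.of k)).hom ≫ F := by
    simp only [F, Iso.hom_inv_id_assoc]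
  rw [this]
  infer_instance

variable (G H Q : Over (Spec (CommRingCat.of k))) [GrpObj G] [GrpObj H] [GrpObj Q]
    [Smooth G.hom] [QuasiCompact G.hom] [ConnectedSpace ↥G.left]
    [IsAffine H.left] [IsProper Q.hom]
    (j : H ⟶ G) [IsMonHom j] (q : G ⟶ Q) [IsMonHom q] [Flat q.left] [Surjective q.left]
    (hker : IsPullback j (toUnit H) q η[Q])
    (u : G ⟶ G) [IsMonHom u] (hH : j ≫ u = j) (hQ : u ≫ q = q)

include hker hH hQ in
theorem eq_id : u = 𝟙 G := by
  obtain ⟨φ', hφ⟩ := exists_phi j q hker u hQ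
  have hinv := fun {T : Over (Spec (CommRingCat.of k))} (g₁ g₂ : T ⟶ G) =>
    phi_invariant j q hker u hH hQ φ' hφ g₁ g₂
  -- `q` is an fpqc covering
  haveI : QuasiCompact (q.left ≫ Q.hom) := by rw [Over.w q]; infer_instance
  haveI : QuasiCompact q.left := QuasiCompact.of_comp q.left Q.hom
  haveI : EffectiveEpi q.left := inferInstance
  have hdesc : ∀ {Z : Scheme.{u}} (g₁ g₂ : Z ⟶ G.left), g₁ ≫ q.left = g₂ ≫ q.left →
      g₁ ≫ φ'.left = g₂ ≫ φ'.left := by
    intro Z g₁ g₂ h12
    let T : Over (Spec (CommRingCat.of k)) := Over.mk (g₁ ≫ G.hom)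
    let g₁' : T ⟶ G := Over.homMk g₁ rfl
    let g₂' : T ⟶ G := Over.homMk g₂ (by
      change g₂ ≫ G.hom = g₁ ≫ G.hom
      rw [← Over.w q, ← Category.assoc, ← Category.assoc, h12])
    have h12' : g₁' ≫ q = g₂' ≫ q := by
      apply Over.OverMorphism.ext
      exact h12
    have := congrArg (fun φ => φ.left) (hinv g₁' g₂' h12')
    exact this
  let ψ₀ : Q.left ⟶ H.left := EffectiveEpi.desc q.left φ'.left hdesc
  have hψ₀ : q.left ≫ ψ₀ = φ'.left := EffectiveEpi.fac q.left φ'.left hdesc
  -- `Q` has only constant functions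
  haveI : IsReduced G.left := Groth.Agent.Lib.Helper27.SchemeField.isReduced_of_smooth_to_field G.hom
  haveI : IsReduced Q.left := Groth.Agent.Lib.Helper27.SchemeField.isReduced_of_flat_surjective q.left
  haveI : ConnectedSpace ↥Q.left := by
    haveI : Nonempty ↥Q.left := ⟨q.left (Nonempty.some inferInstance)⟩
    haveI : PreconnectedSpace ↥Q.left := by
      constructor
      rw [← Set.range_eq_univ.mpr q.left.surjective]
      exact isPreconnected_range q.left.continuous
    exact ConnectedSpace.mk ‹_›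
  haveI : IsIso Q.hom.appTop := isIso_appTop_of_proper Q.hom
  obtain ⟨c₀, hc₀⟩ := Groth.Agent.Lib.Helper24.Blanchard.exists_factor_of_isAffine Q.hom
    (inferInstance : IsIso Q.hom.appTop) ψ₀
  -- `c₀` is a rational point of `H`
  haveI : Epi q.left := inferInstance
  have hψ₀H : ψ₀ ≫ H.hom = Q.hom := by
    rw [← cancel_epi q.left, ← Category.assoc, hψ₀, Over.w φ', Over.w q]
  have hηQ : η[Q].left ≫ Q.hom = 𝟙 _ := Over.w η[Q]
  have hc₀H : c₀ ≫ H.hom = 𝟙 _ := by
    calc c₀ ≫ H.hom = (η[Q].left ≫ Q.hom) ≫ c₀ ≫ H.hom := by rw [hηQ, Category.id_comp]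
      _ = η[Q].left ≫ ψ₀ ≫ H.hom := by rw [Category.assoc, ← Category.assoc Q.hom, hc₀]
      _ = 𝟙 _ := by rw [hψ₀H, hηQ]
  let c : 𝟙_ (Over (Spec (CommRingCat.of k))) ⟶ H := Over.homMk c₀ hc₀H
  have hc : φ' = toUnit G ≫ c := by
    apply Over.OverMorphism.ext
    simp only [Over.comp_left, Over.toUnit_left, c, Over.homMk_left]
    rw [← hψ₀, ← hc₀, ← Category.assoc, Over.w q]
  exact eq_id_of_phi_const j q hker u φ' hφ c hc

end Groth.Agent.Lib.Helper24.AutRigid
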